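import Cfsg.Agent.Lib.Invol.PushUp.Main

/-!
# Invariant alternating maps on the plane factor through the determinant
-/

set_option autoImplicit false
set_option linter.unusedSectionVars false
set_option linter.style.haveILetI false

namespace Cfsg.Agent.Fus.PushBlocks

open Cfsg.Agent.Grp.SL2 (up low)
open Cfsg.Agent.Invol.SL2Nat (wel)

universe u v

variable {F : Type v} [Field F] {A : Type u} [CommGroup A]

local notation "SS" => Matrix.SpecialLinearGroup (Fin 2) F

/-- An alternating map on the plane invariant under the special linear group. -/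
theorem alt_det (B : (Fin 2 → F) → (Fin 2 → F) → A)
    (hl : ∀ v v' w, B (v + v') w = B v w * B v' w) (halt : ∀ v w, B w v = (B v w)⁻¹)
    (hinv : ∀ (M : SS) v w, B ((M : Matrix (Fin 2) (Fin 2) F).mulVec v) ((M : Matrix (Fin 2) (Fin 2) F).mulVec w) = B v w) :
    ∃ f : Multiplicative F →* A, ∀ v w, B v w = f (Multiplicative.ofAdd (v 0 * w 1 - v 1 * w 0)) := by
  have hr : ∀ v w w', B v (w + w') = B v w * B v w' := fun v w w' => by
    rw [halt (w + w') v, hl, mul_inv, ← halt w v, ← halt w' v]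
  have hline : ∀ t c : F, B ![t, 0] ![c, 0] = 1 := fun t c => by
    have h := hinv (up t) ![0, 1] ![c, 0]
    have e1 : ((up t : SS) : Matrix (Fin 2) (Fin 2) F).mulVec ![0, 1] = ![t, 0] + ![0, 1] := by
      ext i; fin_cases i <;> simp [up, Matrix.mulVec, dotProduct, Fin.sum_univ_two]
    have e2 : ((up t : SS) : Matrix (Fin 2) (Fin 2) F).mulVec ![c, 0] = ![c, 0] := by
      ext i; fin_cases i <;> simp [up, Matrix.mulVec, dotProduct, Fin.sum_univ_two]
    rw [e1, e2, hl] at h
    exact mul_eq_right.mp h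
  have hline' : ∀ a b : F, B ![0, a] ![0, b] = 1 := fun a b => by
    have e : ∀ x : F, ((wel : SS) : Matrix (Fin 2) (Fin 2) F).mulVec ![x, 0] = ![0, x] := fun x => by
      ext i; fin_cases i <;> simp [wel, Matrix.mulVec, dotProduct, Fin.sum_univ_two]
    rw [← e a, ← e b, hinv]
    exact hline a b
  have hscal : ∀ a l : F, B ![a, 0] ![0, l] = B ![1, 0] ![0, a * l] := fun a l => by
    have h := hinv (low l) ![1, 0] ![a, 0]
    have e1 : ∀ x : F, ((low l : SS) : Matrix (Fin 2) (Fin 2) F).mulVec ![x, 0] = ![x, 0] + ![0, l * x] := fun x => by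
      ext i; fin_cases i <;> simp [low, Matrix.mulVec, dotProduct, Fin.sum_univ_two]
    rw [e1, e1, hline, hl, hr, hr, hline, hline', one_mul, mul_one, mul_one, halt ![a, 0] ![0, l], mul_inv_eq_one] at h
    rw [mul_comm a l]
    exact h.symm
  refine ⟨⟨⟨fun x => B ![1, 0] ![0, x.toAdd], ?_⟩, fun x y => ?_⟩, fun v w => ?_⟩
  · rw [toAdd_one]; exact hline' 0 0 ▸ (by
      have h := hr ![1, 0] ![0, 0] ![0, 0]
      rw [show (![0, 0] : Fin 2 → F) + ![0, 0] = ![0, 0] by ext i; fin_cases i <;> simp] at h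
      exact (mul_eq_left.mp h.symm).trans (hline' 0 0).symm)
  · show B ![1, 0] ![0, (x * y).toAdd] = B ![1, 0] ![0, x.toAdd] * B ![1, 0] ![0, y.toAdd]
    rw [← hr, toAdd_mul]
    congr 1
    ext i; fin_cases i <;> simp
  · show B v w = B ![1, 0] ![0, v 0 * w 1 - v 1 * w 0]
    have e : ∀ u : Fin 2 → F, u = ![u 0, 0] + ![0, u 1] := fun u => by ext i; fin_cases i <;> simp
    conv_lhs => rw [e v, e w, hl, hr, hr, hline, hline', one_mul, mul_one, hscal (v 0) (w 1), halt ![w 0, 0] ![0, v 1],
      hscal (w 0) (v 1)]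
    rw [mul_inv_eq_iff_eq_mul, ← hr]
    congr 1
    ext i; fin_cases i <;> simp <;> ring

end Cfsg.Agent.Fus.PushBlocks
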